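-- Team project OOG (S2413), packages [CHAR], [COP], [SPAN] (helper65).
import Mathlib
import Cfsg.Agent.Lib.Helper55.OOG.Defs

set_option autoImplicit false

namespace Cfsg.Agent.Lib.Helper65.OOG

open Cfsg.Agent.Lib.Helper55.OOG

universe u

/-- [CHAR] the characteristic is prime to `q - 1`. -/
theorem pkgChar : PkgChar.{u} := by
  intro F _ _
  refine ⟨ringChar F, CharP.cast_eq_zero F (ringChar F), ?_⟩
  obtain ⟨n, hp, hcard⟩ := FiniteField.card F (ringChar F)
  have hpos : 0 < Fintype.card F := Fintype.card_pos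
  have hdvd : ringChar F ∣ Fintype.card F := by
    rw [hcard]
    exact dvd_pow_self _ n.ne_zero
  have hcop : Nat.Coprime (Fintype.card F) (Fintype.card F - 1) := by
    have e : Fintype.card F = (Fintype.card F - 1) + 1 := by omega
    have h1 : Nat.Coprime ((Fintype.card F - 1) + 1) (Fintype.card F - 1) := by simp
    rwa [← e] at h1
  exact Nat.Coprime.coprime_dvd_left hdvd hcop

/-- [COP] commuting elements of coprime orders are powers of their product. -/
theorem pkgCop : PkgCop.{u} := by
  intro G _ s h A B hcop hcomm hsA hhB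
  have hc : Commute s h := hcomm
  have hbez : (A : ℤ) * Nat.gcdA A B + (B : ℤ) * Nat.gcdB A B = 1 := by
    have h1 := Nat.gcd_eq_gcd_ab A B
    rw [hcop.gcd_eq_one] at h1
    rw [← h1]
    simp
  constructor
  · rw [Subgroup.mem_zpowers_iff]
    refine ⟨(B : ℤ) * Nat.gcdB A B, ?_⟩
    rw [zpow_mul, zpow_natCast, hc.mul_pow, hhB, mul_one]
    have e : s = s ^ ((A : ℤ) * Nat.gcdA A B + (B : ℤ) * Nat.gcdB A B) := by
      rw [hbez, zpow_one]
    conv_rhs => rw [e]
    rw [zpow_add, zpow_mul, zpow_mul, zpow_natCast, zpow_natCast, hsA, one_zpow, one_mul]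
  · rw [Subgroup.mem_zpowers_iff]
    refine ⟨(A : ℤ) * Nat.gcdA A B, ?_⟩
    rw [zpow_mul, zpow_natCast, hc.mul_pow, hsA, one_mul]
    have e : h = h ^ ((A : ℤ) * Nat.gcdA A B + (B : ℤ) * Nat.gcdB A B) := by
      rw [hbez, zpow_one]
    conv_rhs => rw [e]
    rw [zpow_add, zpow_mul, zpow_mul, zpow_natCast, zpow_natCast, hhB, one_zpow, mul_one]

/-- [SPAN] a finite field of odd order is additively generated by the powers of some `k²`. -/
theorem pkgSpan : PkgSpan.{u} := by
  intro F _ _ hodd
  have h2 : (2 : F) ≠ 0 := by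
    apply Ring.two_ne_zero
    intro hc
    have := FiniteField.even_card_iff_char_two.1 hc
    rw [Nat.odd_iff] at hodd
    omega
  obtain ⟨g, hg⟩ := IsCyclic.exists_generator (α := Fˣ)
  refine ⟨(g : F), g.ne_zero, ?_⟩
  intro A h1 hstab
  have hpow : ∀ j : ℕ, ((g : F) * (g : F)) ^ j ∈ A := by
    intro j
    induction j with
    | zero => rw [pow_zero]; exact h1
    | succ j ih =>
      rw [pow_succ']
      exact hstab _ ih
  have hsq : ∀ a : F, a * a ∈ A := by
    intro a
    by_cases ha : a = 0
    · rw [ha, mul_zero]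
      exact A.zero_mem
    · have hmem : Units.mk0 a ha ∈ Subgroup.zpowers g := hg _
      rw [← mem_powers_iff_mem_zpowers] at hmem
      obtain ⟨j, hj⟩ := hmem
      have e : a = (g : F) ^ j := by
        have := congrArg (fun z : Fˣ => (z : F)) hj
        simp only [Units.val_pow_eq_pow_val, Units.val_mk0] at this
        exact this.symm
      have e2 : a * a = ((g : F) * (g : F)) ^ j := by
        rw [e, mul_pow]
      rw [e2]
      exact hpow j
  rw [AddSubgroup.eq_top_iff']
  intro x
  have e : x = ((x + 1) / 2) * ((x + 1) / 2) - ((x - 1) / 2) * ((x - 1) / 2) := by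
    field_simp
    ring
  rw [e]
  exact A.sub_mem (hsq _) (hsq _)

end Cfsg.Agent.Lib.Helper65.OOG
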